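import Groth.Agent.S5366
import Groth.Agent.RedSub.Basic
import Mathlib.AlgebraicGeometry.Morphisms.Smooth
import Mathlib.AlgebraicGeometry.Morphisms.Flat
import Mathlib.AlgebraicGeometry.Morphisms.UniversallyOpen
import Mathlib.AlgebraicGeometry.AlgClosed.Basic

/-!
# Iterated commutator words of a group object over any base

The derived series of the groups of points and the closedness of its vanishing on geometric points.
-/

set_option autoImplicit false
universe u v w

open CategoryTheory CategoryTheory.Limits MonoidalCategory CartesianMonoidalCategory MonObj GrpObj AlgebraicGeometry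
open scoped commutatorElement

namespace Groth.Agent.Solv19

section Cat

variable {C : Type w} [Category.{v} C] [CartesianMonoidalCategory C] (G : C) [GrpObj G]

/-- The universal value of the iterated commutator word. -/
noncomputable def word : ℕ → Σ T : C, T ⟶ G
  | 0 => ⟨G, 𝟙 G⟩
  | n + 1 => ⟨(word n).1 ⊗ (word n).1, ⁅fst (word n).1 (word n).1 ≫ (word n).2, snd (word n).1 (word n).1 ≫ (word n).2⁆⟩

lemma comp_commutator {T T' : C} (f : T ⟶ T') (a b : T' ⟶ G) : f ≫ ⁅a, b⁆ = ⁅f ≫ a, f ≫ b⁆ := by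
  simp only [commutatorElement_def, MonObj.comp_mul, GrpObj.comp_inv]

lemma conj_word (n : ℕ) {T : C} :
    ∀ (φ : T ⟶ (word G n).1) (g : T ⟶ G), ∃ ψ, ψ ≫ (word G n).2 = g * (φ ≫ (word G n).2) * g⁻¹ := by
  induction n with
  | zero =>
    intro φ g
    change T ⟶ G at φ
    exact ⟨(g * φ * g⁻¹ : T ⟶ G), by simp [word]⟩
  | succ n ih =>
    intro φ g
    obtain ⟨ψ₁, h₁⟩ := ih (φ ≫ fst _ _) g
    obtain ⟨ψ₂, h₂⟩ := ih (φ ≫ snd _ _) g
    refine ⟨lift ψ₁ ψ₂, ?_⟩
    simp only [word, comp_commutator, lift_fst_assoc, lift_snd_assoc, h₁, h₂, Category.assoc]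
    rw [← conjugate_commutatorElement]

lemma derivedSeries_eq_closure (n : ℕ) (T : C) :
    derivedSeries (T ⟶ G) n = Subgroup.closure (Set.range fun φ : T ⟶ (word G n).1 => φ ≫ (word G n).2) := by
  induction n with
  | zero =>
    rw [derivedSeries_zero, eq_comm, eq_top_iff]
    intro x _
    exact Subgroup.subset_closure ⟨x, by simp [word]⟩
  | succ n ih =>
    have hconj : ∀ a ∈ Set.range (fun φ : T ⟶ (word G n).1 => φ ≫ (word G n).2), ∀ g,
        g * a * g⁻¹ ∈ Set.range (fun φ : T ⟶ (word G n).1 => φ ≫ (word G n).2) := by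
      rintro _ ⟨φ, rfl⟩ g
      obtain ⟨ψ, hψ⟩ := conj_word G n φ g
      exact ⟨ψ, hψ⟩
    rw [derivedSeries_succ, ih, S5366.commutator_closure _ _ hconj hconj]
    congr 1
    ext x
    constructor
    · rintro ⟨_, ⟨φ, rfl⟩, _, ⟨ψ, rfl⟩, rfl⟩
      exact ⟨lift φ ψ, by simp [word, comp_commutator]⟩
    · rintro ⟨φ, rfl⟩
      exact ⟨_, ⟨φ ≫ fst _ _, rfl⟩, _, ⟨φ ≫ snd _ _, rfl⟩, by simp [word, comp_commutator]⟩

lemma derivedSeries_eq_bot_iff (n : ℕ) (T : C) :
    derivedSeries (T ⟶ G) n = ⊥ ↔ ∀ φ : T ⟶ (word G n).1, φ ≫ (word G n).2 = 1 := by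
  rw [derivedSeries_eq_closure, Subgroup.closure_eq_bot_iff]
  exact ⟨fun h φ => h ⟨φ, rfl⟩, fun h => by rintro _ ⟨φ, rfl⟩; exact h φ⟩

end Cat

variable {S : Scheme.{u}} (G : Over S) [GrpObj G]

lemma smooth_word [Smooth G.hom] (n : ℕ) : Smooth (word G n).1.hom := by
  induction n with
  | zero => assumption
  | succ n ih => exact inferInstanceAs (Smooth (pullback.fst (word G n).1.hom (word G n).1.hom ≫ (word G n).1.hom))

/-- Points of a group of a base change. -/
noncomputable def ptsEquiv {k : Type u} [Field k] (g : Spec (CommRingCat.of k) ⟶ S) :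
    ((Over.map g).obj (𝟙_ (Over (Spec (CommRingCat.of k)))) ⟶ G) ≃*
      (𝟙_ (Over (Spec (CommRingCat.of k))) ⟶ Red.bc g G) :=
  { (Over.mapPullbackAdj g).homEquiv _ _ with
    map_mul' := fun a b => by
      show (Over.mapPullbackAdj g).homEquiv _ _ (a * b) = _ * _
      simp only [Adjunction.homEquiv_unit, Functor.map_mul, MonObj.comp_mul, Equiv.toFun_as_coe] }

/-- A geometric point of a scheme over `S` in a given open set over `s`. -/
lemma exists_geomPoint_mem {X : Over S} [LocallyOfFiniteType X.hom] {W : Set X.left} (hW : IsOpen W) {p : X.left}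
    (hp : p ∈ W) {k : Type u} [Field k] [IsAlgClosed k] (g : Spec (CommRingCat.of k) ⟶ S)
    (hs : g (IsLocalRing.closedPoint k) = X.hom p) :
    ∃ φ : (Over.map g).obj (𝟙_ (Over (Spec (CommRingCat.of k)))) ⟶ X, φ.left (IsLocalRing.closedPoint k) ∈ W := by
  obtain ⟨q, hq, -⟩ := Scheme.Pullback.exists_preimage_pullback (f := X.hom) (g := g) p
    (IsLocalRing.closedPoint k) hs.symm
  have : JacobsonSpace ↥(pullback X.hom g) := LocallyOfFiniteType.jacobsonSpace (pullback.snd X.hom g)
  obtain ⟨y, hy, hyc⟩ := nonempty_inter_closedPoints (Z := pullback.fst X.hom g ⁻¹' W)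
    ⟨q, show pullback.fst X.hom g q ∈ W by rw [hq]; exact hp⟩
    (hW.preimage (pullback.fst X.hom g).continuous).isLocallyClosed
  refine ⟨Over.homMk (pointOfClosedPoint (pullback.snd X.hom g) y hyc ≫ pullback.fst X.hom g) ?_, ?_⟩
  · show (pointOfClosedPoint (pullback.snd X.hom g) y hyc ≫ pullback.fst X.hom g) ≫ X.hom = 𝟙 _ ≫ g
    rw [Category.assoc, pullback.condition, ← Category.assoc, pointOfClosedPoint_comp]
  · show pullback.fst X.hom g (pointOfClosedPoint (pullback.snd X.hom g) y hyc (IsLocalRing.closedPoint k)) ∈ W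
    rw [pointOfClosedPoint_apply]
    exact hy

/-- For a geometric point, a point of `G` is trivial iff its image lies on the unit section. -/
lemma eq_one_of_mem_range [IsSeparated G.hom] {k : Type u} [Field k] (g : Spec (CommRingCat.of k) ⟶ S)
    (a : (Over.map g).obj (𝟙_ (Over (Spec (CommRingCat.of k)))) ⟶ G)
    (h : a.left (IsLocalRing.closedPoint k) ∈ Set.range η[G].left) : a = 1 := by
  have hη : η[G].left ≫ G.hom = 𝟙 S := Over.w η[G]
  have : IsClosedImmersion (η[G].left ≫ G.hom) := hη ▸ inferInstanceAs (IsClosedImmersion (𝟙 S))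
  have := IsClosedImmersion.of_comp η[G].left G.hom
  have : IsReduced ((Over.map g).obj (𝟙_ (Over (Spec (CommRingCat.of k))))).left :=
    inferInstanceAs (IsReduced (Spec (CommRingCat.of k)))
  obtain ⟨l, hl⟩ := RedSub.exists_lift_closed η[G].left a.left (by
    rintro _ ⟨t, rfl⟩
    rw [Subsingleton.elim (α := Spec (CommRingCat.of k)) t (IsLocalRing.closedPoint k)]
    exact h)
  refine Over.OverMorphism.ext ?_
  rw [← hl, Hom.one_def, Over.comp_left, Over.toUnit_left]
  have : l = ((Over.map g).obj (𝟙_ (Over (Spec (CommRingCat.of k))))).hom := by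
    rw [← Over.w a, ← hl, Category.assoc, hη]
    exact (Category.comp_id l).symm
  rw [this]

/-- The points over which the derived series of the geometric fibre has length greater than `n` form an
open set. -/
theorem isOpen_setOf_derivedSeries_ne_bot [Smooth G.hom] [IsSeparated G.hom] (n : ℕ) :
    IsOpen {s : S | derivedSeries ((Over.map (Red.geomPt s)).obj (𝟙_ _) ⟶ G) n ≠ ⊥} := by
  have := smooth_word G n
  have hη : η[G].left ≫ G.hom = 𝟙 S := Over.w η[G]
  have : IsClosedImmersion (η[G].left ≫ G.hom) := hη ▸ inferInstanceAs (IsClosedImmersion (𝟙 S))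
  have := IsClosedImmersion.of_comp η[G].left G.hom
  let W : Set (word G n).1.left := (word G n).2.left ⁻¹' (Set.range η[G].left)ᶜ
  have hW : IsOpen W := η[G].left.isClosedEmbedding.isClosed_range.isOpen_compl.preimage (word G n).2.left.continuous
  have hgs : ∀ (s : S) (t : Spec (CommRingCat.of (AlgebraicClosure (S.residueField s)))), Red.geomPt s t = s := fun s t => by
    rw [Scheme.Hom.comp_apply, Scheme.fromSpecResidueField_apply]
  suffices h : {s : S | derivedSeries ((Over.map (Red.geomPt s)).obj (𝟙_ _) ⟶ G) n ≠ ⊥} = (word G n).1.hom '' W by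
    rw [h]; exact (Scheme.Hom.isOpenMap (word G n).1.hom) _ hW
  ext s
  simp only [Set.mem_ofPred_eq, ne_eq, derivedSeries_eq_bot_iff, not_forall, Set.mem_image]
  constructor
  · rintro ⟨φ, hφ⟩
    refine ⟨φ.left (IsLocalRing.closedPoint _), fun hr => hφ (eq_one_of_mem_range G _ _ hr), ?_⟩
    show (φ.left ≫ (word G n).1.hom) (IsLocalRing.closedPoint (AlgebraicClosure (S.residueField s))) = s
    rw [Over.w φ]
    exact hgs s _
  · rintro ⟨p, hp, rfl⟩
    obtain ⟨φ, hφ⟩ := exists_geomPoint_mem (X := (word G n).1) hW hp (Red.geomPt ((word G n).1.hom p)) (hgs _ _)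
    refine ⟨φ, fun h1 => hφ ?_⟩
    show (φ ≫ (word G n).2).left (IsLocalRing.closedPoint _) ∈ Set.range η[G].left
    rw [h1, Hom.one_def, Over.comp_left, Scheme.Hom.comp_apply]
    exact ⟨_, rfl⟩

end Groth.Agent.Solv19
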