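import Groth.Agent.Solv19.Locus
import Groth.Prelude.Def_AGF

/-!
# Nilpotency and solvability of geometric fibres as vanishing of words
-/

set_option autoImplicit false
universe u

open CategoryTheory CategoryTheory.Limits MonoidalCategory CartesianMonoidalCategory MonObj GrpObj AlgebraicGeometry
open TopologicalSpace Topology

namespace Groth.Agent.Solv19

variable {S : Scheme.{u}} (G : Over S) [GrpObj G]

/-- The geometric fibres inherit smoothness from the fibres. -/
lemma smooth_geomFibre (hsm : ∀ s : S, Smooth (G.hom.fiberToSpecResidueField s)) (s : S) :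
    Smooth (Red.geomFibre s G).hom := by
  let k : Type u := AlgebraicClosure (S.residueField s)
  let i : Spec (CommRingCat.of k) ⟶ Spec (S.residueField s) :=
    Spec.map (CommRingCat.ofHom (algebraMap (S.residueField s) k))
  have sq0 : IsPullback (pullback.fst (G.hom.fiberToSpecResidueField s) i ≫ G.hom.fiberι s)
      (pullback.snd (G.hom.fiberToSpecResidueField s) i) G.hom (Red.geomPt s) :=
    (IsPullback.of_hasPullback (G.hom.fiberToSpecResidueField s) i).paste_horiz
      (IsPullback.of_hasPullback G.hom (S.fromSpecResidueField s))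
  have := hsm s
  have h : Smooth (sq0.isoPullback.hom ≫ pullback.snd G.hom (Red.geomPt s)) := by
    rw [IsPullback.isoPullback_hom_snd]; infer_instance
  exact (MorphismProperty.cancel_left_of_respectsIso @Smooth sq0.isoPullback.hom _).1 h

/-- The set of points where the derived length of the geometric fibre is at most `n`. -/
lemma derived_eq_bot_iff (n : ℕ) (s : S) :
    derivedSeries ((Over.map (Red.geomPt s)).obj (𝟙_ _) ⟶ G) n = ⊥ ↔ s ∉ nonTrivSet G (word G n).2 := by
  simp only [derivedSeries_eq_bot_iff, nonTrivSet, Set.mem_ofPred_eq, ne_eq, not_exists, not_not]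

/-- The set of points where the nilpotency class of the geometric fibre is at most `n`. -/
lemma lower_eq_bot_iff (n : ℕ) (s : S) :
    Subgroup.lowerCentralSeries (⊤ : Subgroup ((Over.map (Red.geomPt s)).obj (𝟙_ _) ⟶ G)) n = ⊥ ↔
      s ∉ nonTrivSet G (lword G n).2 := by
  simp only [lowerCentralSeries_eq_bot_iff, nonTrivSet, Set.mem_ofPred_eq, ne_eq, not_exists, not_not]

/-- On an affine open, solvability of the geometric fibres is vanishing of one word. -/
theorem exists_solvable_iff [LocallyOfFinitePresentation G.hom] [QuasiCompact G.hom] [QuasiSeparated G.hom]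
    (hsm : ∀ s : S, Smooth (G.hom.fiberToSpecResidueField s)) {U : S.Opens} (hU : IsAffineOpen U) :
    ∃ N, ∀ s ∈ U, (Red.IsSolvableGrp (Red.geomFibre s G) ↔ s ∉ nonTrivSet G (word G N).2) := by
  obtain ⟨c, d, hcd⟩ := exists_fibre_bounds G hU
  refine ⟨c + (d + 1), fun s hs => ?_⟩
  have := smooth_geomFibre G hsm s
  have : QuasiCompact (Red.geomFibre s G).hom := inferInstanceAs (QuasiCompact (pullback.snd G.hom (Red.geomPt s)))
  rw [← derived_eq_bot_iff]
  let e := ptsEquiv G (Red.geomPt s)
  constructor
  · intro h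
    have hb := derivedSeries_eq_bot_of_bounds (hcd s hs).1 (hcd s hs).2 (Borel50.Solvable.points_of_isSolvableGrp h)
    rw [← map_derivedSeries_eq (f := e.symm.toMonoidHom) e.symm.surjective, hb, Subgroup.map_bot]
  · intro h
    exact Borel50.Solvable.isSolvableGrp_of_points
      ⟨c + (d + 1), by rw [← map_derivedSeries_eq (f := e.toMonoidHom) e.surjective, h, Subgroup.map_bot]⟩

/-- On an affine open, nilpotency of the geometric fibres is vanishing of one word. -/
theorem exists_nilpotent_iff [LocallyOfFinitePresentation G.hom] [QuasiCompact G.hom] [QuasiSeparated G.hom]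
    (hsm : ∀ s : S, Smooth (G.hom.fiberToSpecResidueField s)) {U : S.Opens} (hU : IsAffineOpen U) :
    ∃ N, ∀ s ∈ U, (AGF.IsNilpotentGrp (Red.geomFibre s G) ↔ s ∉ nonTrivSet G (lword G N).2) := by
  obtain ⟨c, d, hcd⟩ := exists_fibre_bounds G hU
  refine ⟨c + (d + 1), fun s hs => ?_⟩
  have := smooth_geomFibre G hsm s
  have : QuasiCompact (Red.geomFibre s G).hom := inferInstanceAs (QuasiCompact (pullback.snd G.hom (Red.geomPt s)))
  rw [← lower_eq_bot_iff]
  let e := ptsEquiv G (Red.geomPt s)
  have hmap : ∀ n, Subgroup.lowerCentralSeries (⊤ : Subgroup (Borel50.Pts.Pt (Red.geomFibre s G))) n = ⊥ ↔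
      Subgroup.lowerCentralSeries (⊤ : Subgroup ((Over.map (Red.geomPt s)).obj (𝟙_ _) ⟶ G)) n = ⊥ := by
    intro n
    constructor
    · intro h
      rw [← Subgroup.map_top_of_surjective e.symm.toMonoidHom e.symm.surjective,
        ← Subgroup.map_lowerCentralSeries, h, Subgroup.map_bot]
    · intro h
      rw [← Subgroup.map_top_of_surjective e.toMonoidHom e.surjective,
        ← Subgroup.map_lowerCentralSeries, h, Subgroup.map_bot]
  constructor
  · intro h
    obtain ⟨m, hm⟩ := isNilpotentGrp_iff.1 h
    exact (hmap _).1 (lowerCentralSeries_eq_bot_of_bounds (hcd s hs).1 (hcd s hs).2 ⟨m, hm⟩)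
  · intro h
    exact isNilpotentGrp_iff.2 ⟨_, (hmap _).2 h⟩

end Groth.Agent.Solv19
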